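import Cfsg.Agent.H794.XZ.X0

/-!
# S4933, label route (helper139): membership in the principal block

* `mem_of_pReg` : a combination of members of a block different from the principal one is orthogonal to the `p`-regular
  part of the trivial character;
* `mem_of_form` : an irreducible character `χ` with `om x = c χ` and `form x (tauP h_n) ≠ 0` is in the principal block.
-/

set_option autoImplicit false

open Cfsg
open scoped ComplexConjugate

namespace Cfsg.Agent.H139.HT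

open Cfsg.Agent.Blocks Cfsg.Agent.Blocks.Basic Cfsg.Agent.Characters Cfsg.Agent.Blocks.PrincipalSection
open Cfsg.Agent.Blocks.Local Cfsg.Agent.H624.Sl
open Cfsg.Agent.H577.GLB.Std
open Cfsg.Agent.H623.GU
open Cfsg.Agent.H112.GLB Cfsg.Agent.H615.GU Cfsg.Agent.H608.BlockRank
open Cfsg.Agent.H794.XZ

universe u

section block

variable {p : ℕ} {𝔐 : Ideal AlgInt} {G : Type u} [Group G] [Finite G]

omit [Finite G] in
/-- the sum over the `p`-regular elements -/
theorem mem_of_pReg (h𝔐 : IsPModular p 𝔐) [Fintype G] {χ : IrrCharacter G}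
    (h : classInner (χ : G → ℂ) (pRegularPart p (fun _ => 1)) ≠ 0) : χ ∈ principalBlock 𝔐 G := by
  have hp : p.Prime := h𝔐.1
  have : Fact p.Prime := ⟨hp⟩
  have := isPrime_of_isPModular h𝔐
  by_contra hχ
  apply h
  have h1 := Cfsg.Agent.H646.RegInner.classInner_pRegularPart_eq_zero h𝔐
    isPBlock_principalBlock
    (one_mem_principalBlock : (⟨fun _ => 1, isIrrCharacter_one⟩ : IrrCharacter G) ∈ _) hχ
  rw [classInner_def] at h1 ⊢
  have h2 := congrArg (starRingEnd ℂ) h1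
  rw [map_zero, map_mul, map_sum, map_inv₀, Complex.conj_natCast] at h2
  rw [← h2]
  congr 1
  refine Finset.sum_congr rfl fun g _ => ?_
  rw [map_mul, Complex.conj_conj, mul_comm]

end block

section tow

variable {K : Type u} [Field K] {θ : K →*₀ ℂ} {Q : ℤ} {M : ℕ} [NeZero M] {N p : ℕ} {G : ℕ → Type u} [∀ n, Group (G n)]
    [∀ n, Finite (G n)] {𝔐 : Ideal AlgInt}

/-- **(K1)** -/
theorem mem_of_form (h𝔐 : IsPModular p 𝔐) (ctx : CtxQ θ Q M N) (t : Tow θ Q M N p G) {n m : ℕ} (hn : n ≤ N)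
    (hm : 0 < m) {x : RS M} (hx : x ∈ Hom Q M n) {χ : IrrCharacter (G n)} {c : ℂ}
    (h : (t.R n hn).om x = c • (χ : G n → ℂ)) (hf : form Q M x (tauP Q M p (S0 Q M n (row m n))) ≠ 0) :
    χ ∈ principalBlock 𝔐 (G n) := by
  let _ : Fintype (G n) := Fintype.ofFinite _
  have hS : S0 Q M n (row m n) ∈ Hom Q M n := H139.XZ.S0_hom ctx.unit _
  refine mem_of_pReg h𝔐 fun h0 => hf ?_
  rw [← (t.R n hn).iso _ hx _ (tauP_mem_hom p hS), (t.R n hn).tau _ hS, om_row ctx t hn hm, h]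
  rw [classInner_def] at h0 ⊢
  have h1 : ∀ g : G n, (c • (χ : G n → ℂ)) g * conj (pReg p (fun _ => (1 : ℂ)) g) =
      c * ((χ : G n → ℂ) g * conj (pRegularPart p (fun _ => (1 : ℂ)) g)) := by
    intro g
    rw [pReg_eq, Pi.smul_apply, smul_eq_mul]
    ring
  rw [Finset.sum_congr rfl fun g _ => h1 g, ← Finset.mul_sum, mul_left_comm, h0, mul_zero]

/-- **(K1)**, for labels -/
theorem mem_of_tau (h𝔐 : IsPModular p 𝔐) (ctx : CtxQ θ Q M N) (t : Tow θ Q M N p G) {n m m' : ℕ} (hn : n ≤ N)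
    (hm : 0 < m) {χ : IrrCharacter (G n)} {T : LabZ Q M m' n} (hT : (t.R n hn).IsLb χ T)
    (hf : form Q M (tauP Q M p (SchP Q M T.t)) (S0 Q M n (row m n)) ≠ 0) : χ ∈ principalBlock 𝔐 (G n) := by
  have hS : S0 Q M n (row m n) ∈ Hom Q M n := H139.XZ.S0_hom ctx.unit _
  obtain ⟨s, hs⟩ := hT
  have hx : SchP Q M T.t ∈ Hom Q M n := schP_mem_hom ctx.unit T
  refine mem_of_form h𝔐 ctx t hn hm hx hs ?_
  rw [← H120.GLB.Tau.form_tauP h𝔐.1 ctx.unit hx.1 hS.1]
  exact hf

end tow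

end Cfsg.Agent.H139.HT
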